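import Cfsg.Agent.CoT.J0
import Cfsg.Agent.S1720
import Cfsg.Agent.S1721
import Cfsg.Agent.S1620

/-! Recognition of the Hall–Janko group from a coordinate form of the involution centralizer. -/

set_option autoImplicit false

namespace Cfsg.Agent.CoT

open Cfsg Cfsg.Agent.H10 Subgroup

namespace PJ

theorem frat_eq {E E' : Type*} [Group E] [Group E'] (e : E ≃* E') :
    frattini E' = (frattini E).map e.toMonoidHom := by
  apply le_antisymm
  · intro x hx
    refine ⟨e.symm x, frattini_le_comap_frattini_of_surjective (φ := e.symm.toMonoidHom) e.symm.surjective hx, by simp⟩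
  · rw [map_le_iff_le_comap]
    exact frattini_le_comap_frattini_of_surjective (φ := e.toMonoidHom) e.surjective

theorem cen_eq {E E' : Type*} [Group E] [Group E'] (e : E ≃* E') :
    center E' = (center E).map e.toMonoidHom := by
  ext x
  constructor
  · intro hx
    refine ⟨e.symm x, mem_center_iff.2 fun g => e.injective ?_, by simp⟩
    simp [mem_center_iff.1 hx (e g)]
  · rintro ⟨y, hy, rfl⟩
    refine mem_center_iff.2 fun g => ?_
    obtain ⟨g, rfl⟩ := e.surjective g
    have := congrArg e (mem_center_iff.1 hy g)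
    simpa using this

theorem xs_equiv {p : ℕ} {E E' : Type*} [Group E] [Group E'] (h : IsExtraspecial p E) (e : E ≃* E') :
    IsExtraspecial p E' := by
  obtain ⟨⟨h1, h2, h3⟩, h4⟩ := h
  refine ⟨⟨h1.of_equiv e, ?_, ?_⟩, ?_⟩
  · rw [frat_eq e, cen_eq e, h2]
  · rw [cen_eq e, ← h3, _root_.commutator_def, _root_.commutator_def, map_commutator,
      map_top_of_surjective _ e.surjective]
  · rw [cen_eq e, card_map_of_injective e.injective, h4]

theorem simple4 : IsSimpleGroup Ω4 := by
  obtain ⟨e⟩ := J2T.omega_A5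
  exact e.isSimpleGroup

theorem card4 : Nat.card Ω4 = 60 := by
  obtain ⟨e⟩ := J2T.omega_A5
  rw [Nat.card_congr e.toEquiv, nat_card_alternatingGroup]
  simp [Nat.factorial]

/-- a self-centralising normal 2-subgroup with quotient `Ω4` is the generalized Fitting subgroup -/
theorem fstar {H : Type*} [Group H] [Finite H] (φ : H →* Ω4) (sur : Function.Surjective φ)
    (h2 : IsPGroup 2 φ.ker) (hc : centralizer (φ.ker : Set H) ≤ φ.ker) :
    generalizedFittingSubgroup H = φ.ker := by
  have : Fact (Nat.Prime 2) := ⟨Nat.prime_two⟩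
  have := simple4
  have : Finite Ω4 := Finite.of_surjective _ sur
  have h1 : φ.ker ≤ pCore 2 H := le_pCore h2
  have h3 : pCore 2 H = φ.ker := by
    refine le_antisymm ?_ h1
    have hn : ((pCore 2 H).map φ).Normal := (pCore_normal 2 H).map φ sur
    have hp : IsPGroup 2 ((pCore 2 H).map φ) := (pCore_isPGroup' 2 H).map φ
    rcases hn.eq_bot_or_eq_top with h | h
    · exact (Subgroup.map_eq_bot_iff _).1 h
    · exfalso
      rw [h] at hp
      obtain ⟨n, hn⟩ := IsPGroup.iff_card.1 hp
      rw [card_top, card4] at hn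
      have : 3 ∣ 2 ^ n := hn ▸ by norm_num
      have := Nat.prime_three.dvd_of_dvd_pow this
      omega
  rw [← h3]
  refine fstar_eq_pCore_iff.2 ?_
  rw [h3]
  exact hc

end PJ

theorem j2 {M : Type*} [Group M] [Finite M] {z s y m : M} (R : Subgroup M) (φ : centralizer ({z} : Set M) →* Ω4)
    (sur : Function.Surjective φ) (ker : ∀ h, φ h = 1 ↔ (h : M) ∈ R) (hz : orderOf z = 2)
    (RE : Cfsg.IsExtraspecial 2 R) (c32 : Nat.card R = 32) (Rz : R ≤ centralizer {z})
    (cR : ∀ c, c * z = z * c → (∀ r ∈ R, r * c = c * r) → c ∈ R) (sR : s ∈ R) (e : m * z * m⁻¹ = s)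
    (ne : s ≠ z) (hy : orderOf y = 2) (nc : ¬ IsConj z y) :
    Cfsg.Spor.IsoJ2 M ∧ Nat.card M = 604800 ∧ IsSimpleGroup M := by
  have hk : φ.ker = R.subgroupOf (centralizer {z}) := by
    ext h
    rw [MonoidHom.mem_ker, ker, mem_subgroupOf]
  have eq : R ≃* φ.ker := (subgroupOfEquivOfLe Rz).symm.trans (MulEquiv.subgroupCongr hk.symm)
  have hQ : IsExtraspecial 2 φ.ker := PJ.xs_equiv RE eq
  have hcard : Nat.card φ.ker = 2 ^ 5 := by rw [← Nat.card_congr eq.toEquiv, c32]; norm_num
  have hF : generalizedFittingSubgroup (centralizer ({z} : Set M)) = φ.ker := by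
    refine PJ.fstar φ sur hQ.1.1 fun c hc => ?_
    rw [MonoidHom.mem_ker, ker]
    refine cR c (mem_centralizer_singleton_iff.1 c.2) fun r hr => ?_
    have := mem_centralizer_iff.1 hc ⟨r, Rz hr⟩ ((ker _).2 hr)
    exact congrArg Subtype.val this
  have q := QuotientGroup.quotientKerEquivOfSurjective φ sur
  have nw : ∃ g : M, (∃ hq : g * z * g⁻¹ ∈ centralizer ({z} : Set M),
      (⟨g * z * g⁻¹, hq⟩ : centralizer ({z} : Set M)) ∈ φ.ker) ∧ g * z * g⁻¹ ≠ z :=
    ⟨m, ⟨e ▸ Rz sR, (ker _).2 (by simpa [e] using sR)⟩, e ▸ ne⟩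
  have i := S1720.result z hz φ.ker hF hQ hcard q nw ⟨z, y, hz, hy, nc⟩
  refine ⟨i, S1721.result z hz φ.ker hF hQ hcard q nw ⟨z, y, hz, hy, nc⟩, ?_⟩
  obtain ⟨f⟩ := i
  have := S1620.result.1
  exact f.isSimpleGroup

end Cfsg.Agent.CoT
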