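import Cfsg.Agent.CoT.CE
import Cfsg.Agent.CoT.XI
import Cfsg.Agent.CoT.LY
import Cfsg.Agent.CoT.J
import Cfsg.Agent.CoT.QU0
import Cfsg.Agent.CoT.M
import Cfsg.Agent.H26.ES4

/-! The centralizer of the element of order five. -/

set_option autoImplicit false

namespace Cfsg.Agent.CoT

open Cfsg Cfsg.Agent.H10 Subgroup QuadraticMap

theorem s01 {v β a w : W} (la : LA v β a w) {k : O8} (h0 : k ∈ S0 v β a w) (h1 : k ∈ S1 v β a w) : k = 1 :=
  H13.OG_ext fun x => by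
    obtain ⟨y, ⟨i, j, l, n, e⟩, hy⟩ := la.l6 x
    have e1 : k.1 y = y := by rw [e]; simp only [map_add, map_smul, h0.2.1, h0.2.2.1, h0.2.2.2.1, h0.2.2.2.2]
    have := h1.2 _ hy
    rw [map_add, e1, add_left_inj] at this
    exact this

variable {G : Type*} [Group G] [Finite G] {z : G} {Q : Subgroup G} {ρ : centralizer ({z} : Set G) →* O8} {p : G → W}
  {s b m f a a' : G}

theorem five (h : Fv z Q ρ p s b m f a a') (la : LA vv (p b) (p a) (p a'))
    (RE : IsExtraspecial 2 ↥(Q ⊓ centralizer {f})) (c32 : Nat.card ↥(Q ⊓ centralizer {f}) = 32)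
    (L : Subgroup G) (hL : L = centralizer {f}) : Spor.IsoJ2 ↥(layer L) ∧
      Nonempty (centralizer (((layer L).map L.subtype : Subgroup G) : Set G) ≃* alternatingGroup (Fin 5)) := by
  have : Fact (Nat.Prime 2) := ⟨Nat.prime_two⟩
  have cx := h.cx
  have co := cx.co
  obtain ⟨e1⟩ := la.l1
  obtain ⟨E, hE⟩ : ∃ E, E = centralizer (XX z s b m a a' : Set G) := ⟨_, rfl⟩
  have fX : f ∈ XX z s b m a a' := h.fD
  have DE : ∀ d ∈ ({z, s, b, a, a', m} : Set G), d ∈ E := fun d hd => hE ▸ fun x hx => (hx d hd).symm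
  have EL : E ≤ L := fun x hx => hL ▸ mem_centralizer_singleton_iff.2 ((hE ▸ hx) f fX).symm
  have zE := DE z (by simp)
  have sE := DE s (by simp)
  have mE := DE m (by simp)
  have aE := DE a (by simp)
  have aE' := DE a' (by simp)
  have mL : ∀ {x}, x ∈ L ↔ x * f = f * x := hL ▸ mem_centralizer_singleton_iff
  rw [← hL] at RE c32
  have RE0 : Q ⊓ L ≤ E := fun q hq => hE ▸ rq h la hq.1 (mL.1 hq.2)
  have cz : ∀ c : ↥(E ⊓ centralizer {z}), (c : G) * z = z * c := fun c => mem_centralizer_singleton_iff.1 c.2.2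
  let φ1 : ↥(E ⊓ centralizer {z}) →* S1 vv (p b) (p a) (p a') :=
    (ρ.comp (inclusion inf_le_right)).codRestrict _ fun c => (sg_eq (ρ := ρ) (cz c)) ▸ inS1 h la (xiso h la) (cz c) (hE ▸ c.2.1)
  have φe : ∀ c, (φ1 c : O8) = sg ρ c := fun c => (sg_eq (ρ := ρ) (cz c)).symm
  have sur : Function.Surjective (e1.toMonoidHom.comp φ1) := e1.surjective.comp fun k => by
    obtain ⟨c, c1, c2, c3⟩ := lift h la k.2
    exact ⟨⟨c, hE ▸ cen h la (xiso h la) c1 c2 (c3 ▸ k.2), mem_centralizer_singleton_iff.2 c1⟩, Subtype.ext ((φe _).trans c3)⟩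
  have ker : ∀ c, e1.toMonoidHom.comp φ1 c = 1 ↔ (c : G) ∈ Q ⊓ L := fun c => by
    rw [MonoidHom.comp_apply, MulEquiv.coe_toMonoidHom, e1.map_eq_one_iff, Subtype.ext_iff, φe, OneMemClass.coe_one,
      co.sg_one (cz c)]
    exact ⟨fun e => ⟨e, EL c.2.1⟩, fun e => e.1⟩
  have S0m : ∀ c, c * z = z * c → (∀ d ∈ ({s, b, a, a'} : Set G), d * c = c * d) → sg ρ c ∈ S0 vv (p b) (p a) (p a') :=
    fun c hc k => by
      have t : ∀ d ∈ Q, d * c = c * d → (sg ρ c).1 (p d) = p d := fun d hd e => by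
        rw [← co.sg_act hc hd, ← e, mul_inv_cancel_right]
      exact ⟨co.sg_mem hc, cx.ps ▸ t s cx.sQ (k s (by simp)), t b cx.bQ (k b (by simp)), t a h.aQ (k a (by simp)),
        t a' h.aQ' (k a' (by simp))⟩
  have cR : ∀ c ∈ E, c * z = z * c → (∀ r ∈ Q ⊓ L, r * c = c * r) → c ∈ Q ⊓ L := fun c hc c1 k =>
    ⟨(co.sg_one c1).1 (s01 la (S0m c c1 fun d hd => k d (by
      rcases hd with rfl | rfl | rfl | rfl
      exacts [⟨cx.sQ, EL sE⟩, ⟨cx.bQ, EL (DE _ (by simp))⟩, ⟨h.aQ, EL aE⟩, ⟨h.aQ', EL aE'⟩])) (inS1 h la (xiso h la) c1 (hE ▸ hc))), EL hc⟩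
  have fz : f * z = z * f := (h.fD z (by simp)).symm
  have fE : f ∉ E := fun e => by
    have := xinj h la fX ((co.sg_one fz).1 (s01 la (S0m f fz fun d hd => h.fD d (by
      rcases hd with rfl | rfl | rfl | rfl <;> simp)) (inS1 h la (xiso h la) fz (hE ▸ e))))
    have h5 := h.f5
    rw [this, orderOf_one] at h5
    omega
  have ty : TB Q p vv s m 1 (a * (m * a' * m⁻¹)) := ⟨a, h.aQ, a', h.aQ', (cx.perp h.aQ).2 h.fr.2.2.1.1,
    (cx.perp h.aQ').2 h.fr.2.2.1.2.1, h.fr.2.2.1, rfl⟩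
  have yE : a * (m * a' * m⁻¹) ∈ E := mul_mem aE (mul_mem (mul_mem mE aE') (inv_mem mE))
  have nc : ∀ (K : Subgroup G) (z' y' : K), (z' : G) = z → (y' : G) = a * (m * a' * m⁻¹) → ¬ IsConj z' y' :=
    fun K z' y' k1 k2 c => cx.tb_nc ty (k1 ▸ k2 ▸ K.subtype.map_isConj c)
  have eC : centralizer ({⟨z, zE⟩} : Set E) = (E ⊓ centralizer {z}).subgroupOf E := by
    ext x; simp [mem_subgroupOf, mem_centralizer_singleton_iff, Subtype.ext_iff]
  let t1 := (MulEquiv.subgroupCongr eC).trans (subgroupOfEquivOfLe inf_le_left)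
  obtain ⟨J, cE, sE'⟩ := j2 (M := E) (z := ⟨z, zE⟩) (s := ⟨s, sE⟩) (y := ⟨_, yE⟩) (m := ⟨m, mE⟩) ((Q ⊓ L).subgroupOf E)
    ((e1.toMonoidHom.comp φ1).comp t1.toMonoidHom) (sur.comp t1.surjective) (fun c => ker (t1 c))
    (by rw [orderOf_mk]; exact cx.lx.ord) (H26.isExtraspecial_congr RE (subgroupOfEquivOfLe RE0).symm)
    ((Nat.card_congr (subgroupOfEquivOfLe RE0).toEquiv).trans c32)
    (fun x hx => mem_centralizer_singleton_iff.2 (Subtype.ext (cx.lx.cent _ hx.1)))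
    (fun c c1 k => cR c c.2 (congrArg Subtype.val c1) fun r hr => congrArg Subtype.val (k ⟨r, RE0 hr⟩ hr))
    ⟨cx.sQ, EL sE⟩ (Subtype.ext cx.mz) (fun e => cx.snz (congrArg Subtype.val e)) (by rw [orderOf_mk]; exact cx.ordT ty)
    (nc _ _ _ rfl rfl)
  have fL : f ∈ L := mL.2 rfl
  have fc : ∀ x : L, (⟨f, fL⟩ : L) * x = x * ⟨f, fL⟩ := fun x => Subtype.ext (mL.1 x.2).symm
  have f5 : orderOf (⟨f, fL⟩ : L) = 5 := by rw [orderOf_mk]; exact h.f5
  let t2 := subgroupOfEquivOfLe (inf_le_left.trans EL : E ⊓ centralizer {z} ≤ L)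
  have cL := qu' (M := L) (z := ⟨z, EL zE⟩) (s := ⟨s, EL sE⟩) (y := ⟨_, EL yE⟩) (m := ⟨m, EL mE⟩) (f := ⟨f, fL⟩)
    ((E ⊓ centralizer {z}).subgroupOf L) ((Q ⊓ L).subgroupOf L) ((e1.toMonoidHom.comp φ1).comp t2.toMonoidHom)
    (sur.comp t2.surjective) (fun c => ker (t2 c)) f5 fc (fun e => fE e.1)
    (fun x hx => mem_centralizer_singleton_iff.2 (Subtype.ext (mem_centralizer_singleton_iff.1 hx.2)))
    (fun x hx => ⟨RE0 hx, mem_centralizer_singleton_iff.2 (cx.lx.cent _ hx.1)⟩)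
    (fun c c1 => by
      have c2 : (c : G) * z = z * c := congrArg Subtype.val c1
      obtain ⟨i, hi⟩ := dec5 h la (xiso h la) c2 (mL.1 c.2)
      exact ⟨i, hE ▸ hi, mem_centralizer_singleton_iff.2 (cz_mul (Commute.pow_left fz i) c2)⟩)
    (by rw [orderOf_mk]; exact cx.lx.ord) (H26.isExtraspecial_congr RE (subgroupOfEquivOfLe inf_le_right).symm)
    ((Nat.card_congr (subgroupOfEquivOfLe inf_le_right).toEquiv).trans c32)
    (fun c hc k => cR c hc.1 (mem_centralizer_singleton_iff.1 hc.2) fun r hr => congrArg Subtype.val (k ⟨r, hr.2⟩ hr))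
    ⟨cx.sQ, EL sE⟩ (Subtype.ext cx.mz) (fun e => cx.snz (congrArg Subtype.val e)) (by rw [orderOf_mk]; exact cx.ordT ty)
    (nc _ _ _ rfl rfl) fun N _ => fun R φ a b c d e f g h i j k l => (j2 R φ a b c d e f g h i j k l).2.1
  have t3 := subgroupOfEquivOfLe EL
  have : IsSimpleGroup (E.subgroupOf L) := t3.isSimpleGroup
  rw [ly (E.subgroupOf L) ((Nat.card_congr t3.toEquiv).trans cE) f5 fc cL, subgroupOf_map_subtype, inf_eq_left.2 EL]
  obtain ⟨J⟩ := J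
  refine ⟨⟨t3.trans J⟩, ?_⟩
  have : centralizer (E : Set G) = XX z s b m a a' :=
    le_antisymm (fun x hx d hd => hx d (DE d hd)) fun x hx e he => ((hE ▸ he) x hx).symm
  rw [this]
  exact xiso h la

end Cfsg.Agent.CoT
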