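import Cfsg.Agent.CoT.QU0
import Cfsg.Agent.CoT.J

/-! The order of a group with central element of order five and quotient of type `J₂`. -/

set_option autoImplicit false

namespace Cfsg.Agent.CoT

open Cfsg Cfsg.Agent.H10 Subgroup QuadraticMap

theorem qu {M : Type*} [Group M] [Finite M] {z s y m f : M} (C0 R : Subgroup M) (φ : C0 →* Ω4)
    (sur : Function.Surjective φ) (ker : ∀ h, φ h = 1 ↔ (h : M) ∈ R) (hf : orderOf f = 5)
    (fc : ∀ x, f * x = x * f) (fn : f ∉ C0) (C0z : C0 ≤ centralizer {z}) (RC : R ≤ C0)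
    (dec : ∀ h, h * z = z * h → ∃ i : ℕ, f ^ i * h ∈ C0) (hz : orderOf z = 2)
    (RE : Cfsg.IsExtraspecial 2 R) (c32 : Nat.card R = 32)
    (cR : ∀ c ∈ C0, (∀ r ∈ R, r * c = c * r) → c ∈ R) (sR : s ∈ R) (e : m * z * m⁻¹ = s)
    (ne : s ≠ z) (hy : orderOf y = 2) (nc : ¬ IsConj z y) : Nat.card M = 5 * 604800 :=
  qu' C0 R φ sur ker hf fc fn C0z RC dec hz RE c32 cR sR e ne hy nc
    fun _ _ _ _ _ _ R φ a b c d e f g h i j k l => (j2 R φ a b c d e f g h i j k l).2.1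

end Cfsg.Agent.CoT
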